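import Groth.Agent.Lib.FunField.Genus
import Groth.Prelude.Def_W4c6gradedringsgwSect
import Mathlib.Algebra.MonoidAlgebra.Basic
import Mathlib.Algebra.Polynomial.Inductions
import Mathlib.RingTheory.Ideal.Maps
import Mathlib.FieldTheory.IsAlgClosed.Basic

/-! # The section ring of a point divisor: leading coefficients along the Weierstrass semigroup -/

namespace Groth.Agent.GrSect

open WithZero FunFld Polynomial Groth.Agent.FunField W4c6gradedringsgw
open scoped Multiplicative

variable {k K : Type*} [Field k] [Field K] [Algebra k K]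

theorem smul_single_one (P : Place k K) (n : ℤ) :
    n • (Finsupp.single P 1 : Divisor k K) = Finsupp.single P n := by
  rw [Finsupp.smul_single, smul_eq_mul, mul_one]

theorem mem_sect_iff {P : Place k K} {p : K[X]} :
    p ∈ sectRing (Finsupp.single P 1 : Divisor k K) ↔
      ∀ n : ℕ, p.coeff n ∈ FunFld.L (Finsupp.single P (n : ℤ) : Divisor k K) := by
  show (∀ n : ℕ, p.coeff n ∈ FunFld.L ((n : ℤ) • (Finsupp.single P 1 : Divisor k K))) ↔ _
  simp only [smul_single_one]

/-- The `k`-valued residue at a rational place (total function). -/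
noncomputable def res0 (P : Place k K) (x : K) : k :=
  open scoped Classical in
  if hx : P.1 x ≤ 1 then
    Function.invFun (algebraMap k (IsLocalRing.ResidueField P.O)) (IsLocalRing.residue P.O ⟨x, hx⟩)
  else 0

variable [IsAlgClosed k] (hK : IsFunctionField k K) {P : Place k K}

include hK

theorem residue_bij : Function.Bijective (algebraMap k (IsLocalRing.ResidueField P.O)) := by
  haveI hf := (ff hK).finite_residueField P
  haveI : Algebra.IsIntegral k (IsLocalRing.ResidueField P.O) :=
    ⟨fun x => IsIntegral.of_mem_of_fg ⊤ (by convert hf.fg_top using 0 <;> rfl) x trivial⟩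
  exact IsAlgClosed.algebraMap_bijective_of_isIntegral

theorem res0_spec {x : K} (hx : P.1 x ≤ 1) :
    algebraMap k (IsLocalRing.ResidueField P.O) (res0 P x) = IsLocalRing.residue P.O ⟨x, hx⟩ := by
  rw [res0, dif_pos hx]
  exact Function.rightInverse_invFun (residue_bij hK).2 _

theorem res0_const (c : k) : res0 P (algebraMap k K c) = c := by
  apply (residue_bij hK (P := P)).1
  rw [res0_spec hK (val_const_le P c)]
  rfl

theorem res0_zero : res0 P (0 : K) = 0 := by simpa using res0_const hK (P := P) 0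

theorem res0_one : res0 P (1 : K) = 1 := by simpa using res0_const hK (P := P) 1

theorem res0_add {x y : K} (hx : P.1 x ≤ 1) (hy : P.1 y ≤ 1) :
    res0 P (x + y) = res0 P x + res0 P y := by
  apply (residue_bij hK (P := P)).1
  rw [map_add, res0_spec hK hx, res0_spec hK hy,
    res0_spec hK ((P.1.map_add x y).trans (max_le hx hy)), ← map_add]
  rfl

theorem res0_mul {x y : K} (hx : P.1 x ≤ 1) (hy : P.1 y ≤ 1) :
    res0 P (x * y) = res0 P x * res0 P y := by
  apply (residue_bij hK (P := P)).1
  rw [map_mul, res0_spec hK hx, res0_spec hK hy,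
    res0_spec hK (show P.1 (x * y) ≤ 1 from (P.1.map_mul x y).trans_le (mul_le_one' hx hy))]
  exact map_mul (IsLocalRing.residue P.O) ⟨x, hx⟩ ⟨y, hy⟩

theorem res0_eq_zero_iff {x : K} (hx : P.1 x ≤ 1) : res0 P x = 0 ↔ P.1 x < 1 := by
  rw [← (residue_bij hK (P := P)).1.eq_iff, res0_spec hK hx, map_zero, residue_eq_zero_iff]

theorem L_one_const (hg : 0 < genus k K) {x : K} (hx : x ∈ FunFld.L (Finsupp.single P 1)) :
    ∃ c : k, algebraMap k K c = x := by
  haveI := finiteDimensional_L (ff hK) (Finsupp.single P 1)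
  have he : FunFld.L (0 : Divisor k K) = FunFld.L (Finsupp.single P 1) :=
    Submodule.eq_of_le_of_finrank_eq (L_mono (Finsupp.single_nonneg.2 zero_le_one))
      (by rw [← ell, ← ell, ell_zero hK, ell_single_one hK hg (deg_eq_one (ff hK) P)])
  rw [← he] at hx
  exact hK.2 x (isAlgebraic_of_mem_L_zero (ff hK) hx)

theorem L_zero_const {x : K} (hx : x ∈ FunFld.L (Finsupp.single P ((0 : ℕ) : ℤ))) :
    ∃ c : k, algebraMap k K c = x := by
  rw [Nat.cast_zero, Finsupp.single_zero] at hx
  exact hK.2 x (isAlgebraic_of_mem_L_zero (ff hK) hx)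

theorem mem_poleOrders {n : ℕ} : n ∈ poleOrders P ↔
    ∃ f : K, f ≠ 0 ∧ f ∈ FunFld.L (Finsupp.single P (n : ℤ)) ∧ P.ord f = -n := by
  rw [← not_gap_iff]
  show ell ((n : ℤ) • (Finsupp.single P 1 : Divisor k K)) =
      ell (((n : ℤ) - 1) • (Finsupp.single P 1 : Divisor k K)) + 1 ↔ _
  rw [smul_single_one, smul_single_one]
  rcases n with _ | n
  · have hb : FunFld.L (Finsupp.single P (((0 : ℕ) : ℤ) - 1)) = ⊥ :=
      L_eq_bot_of_deg_neg (ff hK) (by rw [deg_single, deg_eq_one (ff hK) P]; simp)
    refine ⟨fun h hgap => ?_, fun _ => ?_⟩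
    · rw [IsGap] at hgap
      rw [ell, ell, hgap] at h
      omega
    · rw [ell, ell, hb, finrank_bot, Nat.cast_zero, Finsupp.single_zero, zero_add, ← ell, ell_zero hK]
  · obtain ⟨h1, h2⟩ := ell_step hK (deg_eq_one (ff hK) P) n
    have e : (((n + 1 : ℕ)) : ℤ) - 1 = n := by omega
    rw [e]
    push_cast at h1 h2 ⊢
    exact ⟨fun h hgap => by have := h1 hgap; omega, h2⟩

theorem closure_poleOrders : (AddSubmonoid.closure (poleOrders P) : Set ℕ) = poleOrders P := by
  refine Set.Subset.antisymm (fun n hn => ?_) AddSubmonoid.subset_closure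
  refine AddSubmonoid.closure_induction (fun x h => h) ?_ (fun a b _ _ ha hb => ?_) hn
  · exact (mem_poleOrders hK).2 ⟨1, one_ne_zero, fun Q => by simp, by simp⟩
  · exact (mem_poleOrders hK).2
      (not_gap_iff.1 (not_gap_add (not_gap_iff.2 ((mem_poleOrders hK).1 ha))
        (not_gap_iff.2 ((mem_poleOrders hK).1 hb))))

theorem zero_mem_poleOrders : 0 ∈ poleOrders P :=
  (mem_poleOrders hK).2 ⟨1, one_ne_zero, fun Q => by simp, by simp⟩

theorem add_mem_poleOrders {a b : ℕ} (ha : a ∈ poleOrders P) (hb : b ∈ poleOrders P) :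
    a + b ∈ poleOrders P := by
  rw [← closure_poleOrders hK] at *
  exact add_mem ha hb

theorem one_not_mem_poleOrders (hg : 0 < genus k K) : 1 ∉ poleOrders P := fun h => by
  obtain ⟨f, hf0, hf, ho⟩ := (mem_poleOrders hK).1 h
  obtain ⟨c, rfl⟩ := L_one_const hK hg (by simpa using hf)
  simp at ho

theorem large_mem_poleOrders {n : ℕ} (hn : 2 * genus k K ≤ n) : n ∈ poleOrders P := by
  show ell ((n : ℤ) • (Finsupp.single P 1 : Divisor k K)) =
      ell (((n : ℤ) - 1) • (Finsupp.single P 1 : Divisor k K)) + 1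
  rw [smul_single_one, smul_single_one]
  have h1 := ell_of_large_deg hK (Finsupp.single P (n : ℤ))
    (by rw [deg_single, deg_eq_one (ff hK) P]; omega)
  have h2 := ell_of_large_deg hK (Finsupp.single P ((n : ℤ) - 1))
    (by rw [deg_single, deg_eq_one (ff hK) P]; omega)
  rw [deg_single, deg_eq_one (ff hK) P] at h1 h2
  omega

theorem minGens_finite (hg : 0 < genus k K) : (minGens (poleOrders P)).Finite := by
  refine (Set.finite_Iic (4 * genus k K)).subset fun h hh => ?_
  by_contra hlt
  simp only [Set.mem_Iic, not_le] at hlt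
  exact hh.2.2 (2 * genus k K) (large_mem_poleOrders hK le_rfl) (h - 2 * genus k K)
    (large_mem_poleOrders hK (by omega)) (by omega) (by omega) (by omega)

omit hK in
variable (P) in
/-- A chosen uniformizer. -/
noncomputable def unif : K := (exists_uniformizer P).choose

omit hK [IsAlgClosed k] in
theorem unif_spec : unif P ≠ 0 ∧ P.1 (unif P) = exp (-1) := (exists_uniformizer P).choose_spec

omit hK in
variable (P) in
/-- The coefficient of `π^{-n}` of an element of `L(nP)`. -/
noncomputable def lc (n : ℕ) (x : K) : k := res0 P (x * unif P ^ n)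

omit hK [IsAlgClosed k] in
theorem val_mul_unif {n : ℕ} {x : K} (hx : x ∈ FunFld.L (Finsupp.single P (n : ℤ))) :
    P.1 (x * unif P ^ n) ≤ 1 := by
  have h := hx P
  rw [Finsupp.single_eq_same] at h
  rw [map_mul, map_pow, unif_spec.2, ← exp_nsmul]
  refine (mul_le_mul' h le_rfl).trans_eq ?_
  rw [← exp_add, ← exp_zero]
  congr 1
  simp

theorem lc_zero (n : ℕ) : lc P n (0 : K) = 0 := by rw [lc, zero_mul, res0_zero hK]

theorem lc_add {n : ℕ} {x y : K} (hx : x ∈ FunFld.L (Finsupp.single P (n : ℤ)))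
    (hy : y ∈ FunFld.L (Finsupp.single P (n : ℤ))) : lc P n (x + y) = lc P n x + lc P n y := by
  rw [lc, add_mul, res0_add hK (val_mul_unif hx) (val_mul_unif hy)]; rfl

theorem lc_sum {n : ℕ} {ι : Type*} (s : Finset ι) (f : ι → K)
    (hf : ∀ i ∈ s, f i ∈ FunFld.L (Finsupp.single P (n : ℤ))) :
    lc P n (∑ i ∈ s, f i) = ∑ i ∈ s, lc P n (f i) := by
  classical
  induction s using Finset.induction_on with
  | empty => simp [lc_zero hK]
  | insert a s ha ih =>
    rw [Finset.sum_insert ha, Finset.sum_insert ha, ← ih fun i hi => hf i (Finset.mem_insert_of_mem hi)]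
    exact lc_add hK (hf a (Finset.mem_insert_self a s))
      (sum_mem fun i hi => hf i (Finset.mem_insert_of_mem hi))

theorem lc_mul {i j : ℕ} {x y : K} (hx : x ∈ FunFld.L (Finsupp.single P (i : ℤ)))
    (hy : y ∈ FunFld.L (Finsupp.single P (j : ℤ))) :
    lc P (i + j) (x * y) = lc P i x * lc P j y := by
  rw [lc, pow_add, mul_mul_mul_comm, res0_mul hK (val_mul_unif hx) (val_mul_unif hy)]; rfl

theorem lc_const (c : k) : lc P 0 (algebraMap k K c) = c := by
  rw [lc, pow_zero, mul_one, res0_const hK]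

theorem lc_ne_zero_iff {n : ℕ} {x : K} (hx : x ∈ FunFld.L (Finsupp.single P (n : ℤ))) :
    lc P n x ≠ 0 ↔ x ≠ 0 ∧ P.ord x = -n := by
  rcases eq_or_ne x 0 with rfl | hx0
  · simp [lc_zero hK]
  · rw [lc, Ne, res0_eq_zero_iff hK (val_mul_unif hx),
      val_lt_one_iff' P (mul_ne_zero hx0 (pow_ne_zero _ unif_spec.1)),
      ord_mul P hx0 (pow_ne_zero _ unif_spec.1), ord_pow,
      ord_eq_of_val_eq P (unif_spec (P := P)).2]
    have h1 := (mem_L_iff_ord hx0).1 hx P
    rw [Finsupp.single_eq_same] at h1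
    simp only [ne_eq, hx0, not_false_eq_true, true_and]
    omega

/-- The graded map `R → k[T]` of leading coefficients; its kernel is generated by the degree-one
element and its image is the semigroup algebra of the Weierstrass semigroup. -/
noncomputable def phi (P : Place k K) :
    ↥(sectRing (Finsupp.single P 1 : Divisor k K)) →ₐ[k] k[X] :=
  let φ : ↥(sectRing (Finsupp.single P 1 : Divisor k K)) → k[X] :=
    fun p => ∑ n ∈ (p : K[X]).support, monomial n (lc P n ((p : K[X]).coeff n))
  have hco : ∀ p (n : ℕ), (φ p).coeff n = lc P n ((p : K[X]).coeff n) := fun p n => by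
    simp only [φ, finsetSum_coeff, coeff_monomial, Finset.sum_ite_eq', mem_support_iff]
    split
    · rfl
    · rename_i h0; rw [notMem_support_iff.1 h0, lc_zero hK]
  have hm : ∀ (p : ↥(sectRing (Finsupp.single P 1 : Divisor k K))) (n : ℕ),
      (p : K[X]).coeff n ∈ FunFld.L (Finsupp.single P (n : ℤ)) := fun p => mem_sect_iff.1 p.2
  have hC : ∀ c : k, φ (algebraMap k _ c) = Polynomial.C c := fun c => by
    ext n
    rw [hco, Subalgebra.coe_algebraMap, Polynomial.algebraMap_apply, coeff_C, coeff_C]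
    split
    · subst ‹n = 0›; exact lc_const hK c
    · exact lc_zero hK n
  { toFun := φ
    map_one' := by simpa using hC 1
    map_zero' := by simpa using hC 0
    map_add' := fun p q => by
      ext n
      rw [Polynomial.coeff_add, hco, hco, hco, Subalgebra.coe_add, Polynomial.coeff_add,
        lc_add hK (hm p n) (hm q n)]
    map_mul' := fun p q => by
      ext n
      rw [hco, Subalgebra.coe_mul, Polynomial.coeff_mul, Polynomial.coeff_mul]
      have hmem : ∀ x ∈ Finset.antidiagonal n, (p : K[X]).coeff x.1 * (q : K[X]).coeff x.2 ∈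
          FunFld.L (Finsupp.single P (n : ℤ)) := fun x hx => by
        have h := W4c6gradedringsgw.mul_mem_L (hm p x.1) (hm q x.2)
        rwa [← Finsupp.single_add, ← Nat.cast_add, Finset.mem_antidiagonal.1 hx] at h
      rw [lc_sum hK _ _ hmem]
      refine Finset.sum_congr rfl fun x hx => ?_
      rw [hco, hco, ← lc_mul hK (hm p x.1) (hm q x.2), Finset.mem_antidiagonal.1 hx]
    commutes' := hC }

theorem coeff_phi (p : ↥(sectRing (Finsupp.single P 1 : Divisor k K))) (n : ℕ) :
    (phi hK P p).coeff n = lc P n ((p : K[X]).coeff n) := by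
  simp only [phi, AlgHom.coe_mk, RingHom.coe_mk, MonoidHom.coe_mk, OneHom.coe_mk, finsetSum_coeff,
    coeff_monomial, Finset.sum_ite_eq', mem_support_iff]
  split
  · rfl
  · rename_i h0; rw [notMem_support_iff.1 h0, lc_zero hK]

theorem coeff_phi_mem {p : ↥(sectRing (Finsupp.single P 1 : Divisor k K))} {n : ℕ}
    (h : (phi hK P p).coeff n ≠ 0) : n ∈ poleOrders P := by
  rw [coeff_phi] at h
  obtain ⟨h1, h2⟩ := (lc_ne_zero_iff hK (mem_sect_iff.1 p.2 n)).1 h
  exact (mem_poleOrders hK).2 ⟨_, h1, mem_sect_iff.1 p.2 n, h2⟩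

theorem exists_phi_eq_monomial {h : ℕ} (hh : h ∈ poleOrders P) (c : k) :
    ∃ p : ↥(sectRing (Finsupp.single P 1 : Divisor k K)),
      phi hK P p = monomial h c ∧ ∀ n ≠ h, (p : K[X]).coeff n = 0 := by
  obtain ⟨f, hf0, hf, ho⟩ := (mem_poleOrders hK).1 hh
  have hlc := (lc_ne_zero_iff hK hf).2 ⟨hf0, ho⟩
  let g : ↥(sectRing (Finsupp.single P 1 : Divisor k K)) := ⟨monomial h f, mem_sect_iff.2 fun n => by
    rw [coeff_monomial]; split
    · subst ‹h = n›; exact hf
    · exact zero_mem _⟩
  have hg : phi hK P g = monomial h (lc P h f) := by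
    ext n
    rw [coeff_phi]
    simp only [g, coeff_monomial]
    split
    · subst ‹h = n›; rfl
    · exact lc_zero hK n
  refine ⟨(c * (lc P h f)⁻¹) • g, ?_, fun n hn => ?_⟩
  · rw [map_smul, hg, smul_monomial, smul_eq_mul, inv_mul_cancel_right₀ hlc]
  · simp [g, coeff_monomial, Ne.symm hn]

theorem range_phi : Set.range (phi hK P) = {q : k[X] | ∀ n, q.coeff n ≠ 0 → n ∈ poleOrders P} := by
  refine Set.Subset.antisymm ?_ fun q hq => ?_
  · rintro _ ⟨p, rfl⟩ n hn; exact coeff_phi_mem hK hn
  · show q ∈ (phi hK P).range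
    rw [q.as_sum_support]
    refine sum_mem fun n hn => ?_
    obtain ⟨p, hp, -⟩ := exists_phi_eq_monomial hK (hq n (mem_support_iff.1 hn)) (q.coeff n)
    exact ⟨p, hp⟩

theorem exists_of_coeff_one (hg : 0 < genus k K)
    (t : ↥(sectRing (Finsupp.single P 1 : Divisor k K))) {a : K}
    (ht : (t : K[X]) = Polynomial.C a * Polynomial.X) :
    ∃ c : k, algebraMap k K c = a := by
  refine L_one_const hK hg (P := P) ?_
  simpa [ht] using mem_sect_iff.1 t.2 1

theorem ker_phi (hg : 0 < genus k K)
    (t : ↥(sectRing (Finsupp.single P 1 : Divisor k K))) {a : K} (ha : a ≠ 0)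
    (ht : (t : K[X]) = Polynomial.C a * Polynomial.X) :
    RingHom.ker (phi hK P) = Ideal.span {t} := by
  obtain ⟨c, rfl⟩ := exists_of_coeff_one hK hg t ht
  have hc : c ≠ 0 := fun e => ha (by simp [e])
  refine le_antisymm (fun p hp => ?_) ?_
  · have hv : ∀ n, lc P n ((p : K[X]).coeff n) = 0 := fun n => by
      rw [← coeff_phi hK, show phi hK P p = 0 from hp, Polynomial.coeff_zero]
    have hm := mem_sect_iff.1 p.2
    have h0 : (p : K[X]).coeff 0 = 0 := by
      obtain ⟨d, hd⟩ := L_zero_const hK (hm 0)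
      have := hv 0
      rw [← hd, lc_const hK] at this
      rw [← hd, this, map_zero]
    have hsucc : ∀ n : ℕ, (p : K[X]).coeff (n + 1) ∈ FunFld.L (Finsupp.single P (n : ℤ)) := by
      intro n
      rcases eq_or_ne ((p : K[X]).coeff (n + 1)) 0 with e | e
      · rw [e]; exact zero_mem _
      refine (mem_L_iff_ord e).2 fun Q => ?_
      have h1 := (mem_L_iff_ord e).1 (hm (n + 1)) Q
      rcases eq_or_ne Q P with rfl | hQ
      · rw [Finsupp.single_eq_same] at h1 ⊢
        have h2 : ¬ (Q.ord ((p : K[X]).coeff (n + 1)) = -((n + 1 : ℕ) : ℤ)) := fun h =>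
          (lc_ne_zero_iff hK (hm (n + 1))).2 ⟨e, h⟩ (hv (n + 1))
        push_cast at h1 h2
        omega
      · rw [Finsupp.single_eq_of_ne hQ] at h1 ⊢; exact h1
    let q : ↥(sectRing (Finsupp.single P 1 : Divisor k K)) :=
      ⟨(p : K[X]).divX, mem_sect_iff.2 fun n => by rw [coeff_divX]; exact hsucc n⟩
    rw [Ideal.mem_span_singleton']
    refine ⟨c⁻¹ • q, Subtype.ext ?_⟩
    have e := Polynomial.divX_mul_X_add (p : K[X])
    rw [h0, map_zero, add_zero] at e
    conv_rhs => rw [← e]
    show c⁻¹ • (p : K[X]).divX * (t : K[X]) = _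
    rw [ht, Algebra.smul_def, Polynomial.algebraMap_apply, map_inv₀]
    have : Polynomial.C (algebraMap k K c) ≠ 0 := by simpa using hc
    rw [mul_comm (Polynomial.C (algebraMap k K c)⁻¹), mul_assoc, ← mul_assoc (Polynomial.C _),
      ← map_mul, inv_mul_cancel₀ ha, map_one, one_mul]
  · rw [Ideal.span_le, Set.singleton_subset_iff, SetLike.mem_coe, RingHom.mem_ker]
    ext n
    rw [coeff_phi, ht, Polynomial.coeff_zero, coeff_C_mul, coeff_X]
    split
    · subst n
      rw [mul_one]
      by_contra h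
      have := ((lc_ne_zero_iff hK (n := 1) (x := algebraMap k K c)
        (by simpa [ht] using mem_sect_iff.1 t.2 1)).1 h).2
      simp at this
    · rw [mul_zero, lc_zero hK]

end Groth.Agent.GrSect
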