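import Groth.Agent.Lib.GrSect.Basic
import Mathlib.RingTheory.Finiteness.Basic
import Mathlib.LinearAlgebra.Dimension.Finrank
import Mathlib.LinearAlgebra.FiniteDimensional.Basic
import Mathlib.LinearAlgebra.Dimension.Constructions
import Mathlib.Algebra.Module.SpanRank

/-! # The embedding dimension of the section ring of a point divisor -/

namespace Groth.Agent.GrSect

open WithZero FunFld Polynomial Groth.Agent.FunField W4c6gradedringsgw
open scoped Multiplicative

variable {k K : Type*} [Field k] [Field K] [Algebra k K]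
variable [IsAlgClosed k] (hK : IsFunctionField k K) {P : Place k K}
include hK

omit [IsAlgClosed k] hK in
theorem mem_irr {p : ↥(sectRing (Finsupp.single P 1 : Divisor k K))} :
    p ∈ RingHom.ker (Polynomial.constantCoeff.comp
      (sectRing (Finsupp.single P 1 : Divisor k K)).val.toRingHom) ↔ (p : K[X]).coeff 0 = 0 := by
  simp [RingHom.mem_ker]

theorem exists_degree_one :
    ∃ t : ↥(sectRing (Finsupp.single P 1 : Divisor k K)),
      (t : K[X]) = Polynomial.C (1 : K) * Polynomial.X := by
  refine ⟨⟨Polynomial.C (1 : K) * Polynomial.X, mem_sect_iff.2 fun n => ?_⟩, rfl⟩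
  rw [map_one, one_mul, coeff_X]
  split
  · subst n
    intro Q
    rw [map_one, ← exp_zero, exp_le_exp]
    exact (Finsupp.single_nonneg.2 (by norm_num : (0 : ℤ) ≤ ((1 : ℕ) : ℤ)) :
      (0 : Divisor k K) ≤ Finsupp.single P ((1 : ℕ) : ℤ)) Q
  · exact zero_mem _

theorem coeff_phi_zero_eq {p : ↥(sectRing (Finsupp.single P 1 : Divisor k K))}
    (hp : (p : K[X]).coeff 0 = 0) : (phi hK P p).coeff 0 = 0 := by
  rw [coeff_phi, hp, lc_zero hK]

/-- `R₊` is generated by the degree-one element and one lift of each minimal generator. -/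
theorem exists_generators (hg : 0 < genus k K) :
    ∃ g : Option (minGens (poleOrders P)) → ↥(sectRing (Finsupp.single P 1 : Divisor k K)),
      Ideal.span (Set.range g) = RingHom.ker (Polynomial.constantCoeff.comp
        (sectRing (Finsupp.single P 1 : Divisor k K)).val.toRingHom) ∧
      ((g none : ↥(sectRing (Finsupp.single P 1 : Divisor k K))) : K[X]) =
        Polynomial.C (1 : K) * Polynomial.X ∧
      (∀ h : minGens (poleOrders P), phi hK P (g (some h)) = monomial (h : ℕ) 1 ∧
        ∀ n ≠ (h : ℕ), (g (some h) : K[X]).coeff n = 0) := by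
  obtain ⟨t, ht⟩ := exists_degree_one hK (P := P)
  choose e he he0 using fun h : minGens (poleOrders P) => exists_phi_eq_monomial hK h.2.1 (1 : k)
  refine ⟨fun o => o.elim t e, le_antisymm ?_ ?_, ht, fun h => ⟨he h, he0 h⟩⟩
  · rw [Ideal.span_le]
    rintro _ ⟨o, rfl⟩
    rw [SetLike.mem_coe, mem_irr]
    rcases o with _ | h
    · show (t : K[X]).coeff 0 = 0
      rw [ht]; simp
    · exact he0 h 0 (Ne.symm h.2.2.1)
  · set S := Ideal.span (Set.range fun o : Option (minGens (poleOrders P)) => o.elim t e)
    have htS : t ∈ S := Ideal.subset_span ⟨none, rfl⟩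
    have hmon : ∀ n, n ∈ poleOrders P → n ≠ 0 → ∀ c : k, ∃ q ∈ S, phi hK P q = monomial n c := by
      intro n
      induction n using Nat.strong_induction_on with
      | _ n ih =>
        intro hn hn0 c
        by_cases hm : n ∈ minGens (poleOrders P)
        · refine ⟨c • e ⟨n, hm⟩, ?_, by rw [map_smul, he ⟨n, hm⟩, smul_monomial, smul_eq_mul, mul_one]⟩
          rw [Algebra.smul_def]
          exact Ideal.mul_mem_left _ _ (Ideal.subset_span ⟨some ⟨n, hm⟩, rfl⟩)
        · simp only [minGens, Set.mem_ofPred_eq, not_and, not_forall, not_not, ne_eq] at hm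
          obtain ⟨a, ha, b, hb, ha0, hb0, hab⟩ := hm hn hn0
          obtain ⟨q, hq, hqe⟩ := ih a (by omega) ha ha0 c
          obtain ⟨r, hr, hre⟩ := ih b (by omega) hb hb0 1
          exact ⟨q * r, Ideal.mul_mem_right _ _ hq,
            by rw [map_mul, hqe, hre, monomial_mul_monomial, mul_one, hab]⟩
    intro p hp
    rw [mem_irr] at hp
    choose! q hqS hqe using hmon
    have hsum : ∑ n ∈ (phi hK P p).support, q n ((phi hK P p).coeff n) ∈ S := sum_mem fun n hn =>
      hqS n (coeff_phi_mem hK (mem_support_iff.1 hn))
        (fun h0 => by subst h0; exact mem_support_iff.1 hn (coeff_phi_zero_eq hK hp)) _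
    have hd : p - ∑ n ∈ (phi hK P p).support, q n ((phi hK P p).coeff n) ∈
        RingHom.ker (phi hK P) := by
      rw [RingHom.mem_ker, map_sub, map_sum, Finset.sum_congr rfl fun n hn =>
        hqe n (coeff_phi_mem hK (mem_support_iff.1 hn))
          (fun h0 => by subst h0; exact mem_support_iff.1 hn (coeff_phi_zero_eq hK hp)) _,
        ← as_sum_support, sub_self]
    rw [ker_phi hK hg t one_ne_zero ht] at hd
    have := S.add_mem ((Ideal.span_le.2 (Set.singleton_subset_iff.2 htS)) hd) hsum
    rwa [sub_add_cancel] at this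

theorem spanFinrank_irr (hg : 0 < genus k K) :
    (RingHom.ker (Polynomial.constantCoeff.comp
      (sectRing (Finsupp.single P 1 : Divisor k K)).val.toRingHom)).spanFinrank =
      Set.ncard (minGens (poleOrders P)) + 1 := by
  classical
  haveI : Finite (minGens (poleOrders P)) := (minGens_finite hK hg).to_subtype
  haveI := Fintype.ofFinite (minGens (poleOrders P))
  obtain ⟨g, hspan, hnone, hsome⟩ := exists_generators hK hg (P := P)
  set I := RingHom.ker (Polynomial.constantCoeff.comp
    (sectRing (Finsupp.single P 1 : Divisor k K)).val.toRingHom)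
  have hcard : Nat.card (Option (minGens (poleOrders P))) = Set.ncard (minGens (poleOrders P)) + 1 := by
    rw [Finite.card_option, Nat.card_coe_set_eq]
  refine le_antisymm ?_ ?_
  · rw [← hspan, ← hcard]
    exact (Submodule.spanFinrank_span_le_ncard_of_finite (Set.finite_range g)).trans
      (Finite.card_range_le g)
  · let ψ : ↥(sectRing (Finsupp.single P 1 : Divisor k K)) → (Option (minGens (poleOrders P)) → k) :=
      fun p o => o.elim (res0 P ((p : K[X]).coeff 1)) fun h => (phi hK P p).coeff (h : ℕ)
    have hm : ∀ (p : ↥(sectRing (Finsupp.single P 1 : Divisor k K))) (n : ℕ),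
        (p : K[X]).coeff n ∈ FunFld.L (Finsupp.single P (n : ℤ)) := fun p => mem_sect_iff.1 p.2
    have hval : ∀ (p : ↥(sectRing (Finsupp.single P 1 : Divisor k K))),
        P.1 ((p : K[X]).coeff 1) ≤ 1 := fun p => by
      obtain ⟨c, hc⟩ := L_one_const hK hg (P := P) (by simpa using hm p 1)
      rw [← hc]; exact val_const_le P c
    have hψ0 : ψ 0 = 0 := by
      funext o; rcases o with _ | h
      · simp [ψ, res0_zero hK]
      · simp [ψ]
    have hψadd : ∀ p q, ψ (p + q) = ψ p + ψ q := fun p q => by
      funext o; rcases o with _ | h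
      · simp [ψ, res0_add hK (hval p) (hval q)]
      · simp [ψ]
    have hψmul : ∀ r p : ↥(sectRing (Finsupp.single P 1 : Divisor k K)), (p : K[X]).coeff 0 = 0 →
        ψ (r * p) = (phi hK P r).coeff 0 • ψ p := fun r p hp => by
      funext o; rcases o with _ | h
      · obtain ⟨c, hc⟩ := L_zero_const hK (hm r 0)
        have e : ((r * p : ↥(sectRing (Finsupp.single P 1 : Divisor k K))) : K[X]).coeff 1 =
            (r : K[X]).coeff 0 * (p : K[X]).coeff 1 := by
          simp [Subalgebra.coe_mul, Polynomial.coeff_mul, Finset.Nat.sum_antidiagonal_succ, hp]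
        simp only [ψ, Option.elim, Pi.smul_apply, smul_eq_mul, coeff_phi, e]
        rw [res0_mul hK (by rw [← hc]; exact val_const_le P c) (hval p), ← hc, res0_const hK,
          lc_const hK]
      · simp only [ψ, Option.elim, Pi.smul_apply, smul_eq_mul, map_mul, Polynomial.coeff_mul]
        rw [Finset.sum_eq_single (0, (h : ℕ))]
        · rintro ⟨a, b⟩ hab hne
          rw [Finset.mem_antidiagonal] at hab
          by_contra hprod
          obtain ⟨hpa, hpb⟩ := mul_ne_zero_iff.1 hprod
          have hb0 : b ≠ 0 := fun e => hpb (by rw [e]; exact coeff_phi_zero_eq hK hp)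
          have ha0 : a ≠ 0 := fun e => hne (by subst e; simp only [Prod.mk.injEq, true_and]; omega)
          exact h.2.2.2 a (coeff_phi_mem hK hpa) b (coeff_phi_mem hK hpb) ha0 hb0 hab
        · intro h1; exact absurd (Finset.mem_antidiagonal.2 (zero_add _)) h1
    obtain ⟨T, hT, hf⟩ := Submodule.FG.exists_span_finset_card_eq_spanFinrank
      (⟨(Set.finite_range g).toFinset, by rw [Set.Finite.coe_toFinset]; exact hspan⟩ : I.FG)
    have hsub : ∀ p ∈ I, ψ p ∈ Submodule.span k (Set.range fun x : T => ψ x) := by
      intro p hp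
      rw [← hf] at hp
      induction hp using Submodule.span_induction with
      | mem x hx => exact Submodule.subset_span ⟨⟨x, hx⟩, rfl⟩
      | zero => rw [hψ0]; exact zero_mem _
      | add x y _ _ hx hy => rw [hψadd]; exact add_mem hx hy
      | smul r x hxm hx =>
        have hxI : x ∈ I := by rw [← hf]; exact hxm
        rw [smul_eq_mul, hψmul r x (mem_irr.1 hxI)]
        exact Submodule.smul_mem _ _ hx
    have hψg : ∀ o, ψ (g o) = Pi.single o 1 := by
      intro o; funext o'
      have hnone' : ψ (g none) = Pi.single none 1 := by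
        funext o'; rcases o' with _ | h
        · simp [ψ, hnone, res0_one hK]
        · have hk : g none ∈ RingHom.ker (phi hK P) := by
            rw [ker_phi hK hg (g none) one_ne_zero hnone]; exact Ideal.mem_span_singleton_self _
          simp [ψ, RingHom.mem_ker.1 hk]
      rcases o with _ | h
      · rw [hnone']
      · rcases o' with _ | h'
        · have h1 : (1 : ℕ) ≠ h := fun e => one_not_mem_poleOrders hK hg (e ▸ h.2.1)
          simp [ψ, (hsome h).2 1 h1, res0_zero hK]
        · simp only [ψ, Option.elim, (hsome h).1, coeff_monomial, Pi.single_apply, Option.some.injEq,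
            Subtype.ext_iff, eq_comm]
    have htop : Submodule.span k (Set.range fun x : T => ψ x) = ⊤ := by
      rw [eq_top_iff, ← (Pi.basisFun k (Option (minGens (poleOrders P)))).span_eq, Submodule.span_le]
      rintro _ ⟨o, rfl⟩
      rw [Pi.basisFun_apply, ← hψg o]
      exact hsub _ (hspan ▸ Ideal.subset_span ⟨o, rfl⟩)
    have h := finrank_range_le_card (R := k) (fun x : T => ψ x)
    rw [Set.finrank, htop, finrank_top, Module.finrank_pi, Fintype.card_coe, hT,
      Fintype.card_eq_nat_card, hcard] at h
    exact h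

end Groth.Agent.GrSect
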