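import Groth.Agent.Lib.GrSect.SgAlg
import Groth.Agent.Lib.GrSect.EmbDim
import Groth.Agent.Lib.GrLC21.GorenTop
import Groth.Agent.Lib.GrLC21.Basic
import Groth.Agent.S15018
import Mathlib.RingTheory.Adjoin.Polynomial.Basic
import Mathlib.RingTheory.FiniteType

/-! # The Gorenstein property of the section ring of a point divisor -/

universe u

open WithZero FunFld Polynomial Groth.Agent.FunField W4c6gradedringsgw DirectSum
open scoped Multiplicative

noncomputable section

set_option backward.isDefEq.respectTransparency false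

namespace Groth.Agent.GrSect

variable {k K : Type u} [Field k] [Field K] [Algebra k K] (P : Place k K)

/-- The section ring of the point divisor. -/
abbrev SR : Subalgebra k K[X] := sectRing (Finsupp.single P 1 : Divisor k K)

/-- The homogeneous component. -/
def cmp (i : ℤ) : ↥(SR P) →+ ↥(SR P) where
  toFun p := if hi : 0 ≤ i then ⟨monomial i.toNat ((p : K[X]).coeff i.toNat), mem_sect_iff.2 fun n => by
    rw [coeff_monomial]; split
    · subst ‹i.toNat = n›; exact mem_sect_iff.1 p.2 _
    · exact zero_mem _⟩ else 0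
  map_zero' := by split <;> [exact Subtype.ext (by simp); rfl]
  map_add' p q := by split <;> [exact Subtype.ext (by simp); rw [add_zero]]

/-- The graded pieces. -/
def grP (i : ℤ) : AddSubgroup ↥(SR P) where
  carrier := {p | ∀ n : ℕ, (n : ℤ) ≠ i → (p : K[X]).coeff n = 0}
  zero_mem' := fun n _ => by simp
  add_mem' {a b} ha hb n hn := by simp [ha n hn, hb n hn]
  neg_mem' {a} ha n hn := by simp [ha n hn]

theorem mem_grP {i : ℤ} {p : ↥(SR P)} :
    p ∈ grP P i ↔ ∀ n : ℕ, (n : ℤ) ≠ i → (p : K[X]).coeff n = 0 := Iff.rfl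

theorem coeff_cmp (i : ℤ) (p : ↥(SR P)) (n : ℕ) :
    (cmp P i p : K[X]).coeff n = if (n : ℤ) = i then (p : K[X]).coeff n else 0 := by
  simp only [cmp, AddMonoidHom.coe_mk, ZeroHom.coe_mk]
  split
  · rw [coeff_monomial]
    by_cases h : (n : ℤ) = i
    · rw [if_pos h, if_pos (by omega), show i.toNat = n by omega]
    · rw [if_neg h, if_neg (by omega)]
  · rw [if_neg (by omega)]; simp

instance : SetLike.GradedMonoid (grP P) where
  one_mem n hn := by rw [OneMemClass.coe_one, coeff_one, if_neg (by omega)]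
  mul_mem i j p q hp hq n hn := by
    rw [Subalgebra.coe_mul, coeff_mul]
    refine Finset.sum_eq_zero fun x hx => ?_
    have := Finset.HasAntidiagonal.mem_antidiagonal.1 hx
    by_cases h1 : (x.1 : ℤ) = i
    · rw [hq x.2 (by omega), mul_zero]
    · rw [hp x.1 h1, zero_mul]

theorem isInternal_grP : IsInternal (grP P) :=
  GrLC21.isInternal_of_proj _ (cmp P)
    (fun g x hx => Subtype.ext (Polynomial.ext fun n => by
      rw [coeff_cmp]; split <;> [rfl; exact (hx n ‹_›).symm]))
    (fun g h e x hx => Subtype.ext (Polynomial.ext fun n => by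
      rw [coeff_cmp, ZeroMemClass.coe_zero, Polynomial.coeff_zero]
      split <;> [exact hx n (by omega); rfl]))
    fun x => by
      have hx : x = ∑ n ∈ (x : K[X]).support, cmp P (n : ℤ) x := Subtype.ext (Polynomial.ext fun m => by
        rw [AddSubmonoidClass.coe_finsetSum, finsetSum_coeff]
        simp only [coeff_cmp, Nat.cast_inj, Finset.sum_ite_eq, mem_support_iff]
        split <;> [rfl; simp_all])
      rw [hx]
      refine sum_mem fun n _ => AddSubgroup.mem_iSup_of_mem (n : ℤ) ?_
      intro m hm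
      rw [coeff_cmp, if_neg hm]

instance : GradedRing (grP P) :=
  { (inferInstance : SetLike.GradedMonoid (grP P)), (isInternal_grP P).chooseDecomposition with }

theorem coeff_decompose (p : ↥(SR P)) (i : ℤ) (n : ℕ) :
    ((decompose (grP P) p i : ↥(SR P)) : K[X]).coeff n = if (n : ℤ) = i then (p : K[X]).coeff n else 0 := by
  classical
  split
  · subst i
    conv_rhs => rw [← DirectSum.sum_support_decompose (grP P) p]
    rw [AddSubmonoidClass.coe_finsetSum, finsetSum_coeff]
    refine (Finset.sum_eq_single (n : ℤ) (fun j _ hj => (decompose (grP P) p j).2 n (Ne.symm hj)) fun h => ?_).symm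
    rw [DFinsupp.notMem_support_iff.1 h]; simp
  · exact (decompose (grP P) p i).2 n ‹_›

/-- The ideal of the elements without constant term. -/
def irrP : HomogeneousIdeal (grP P) :=
  ⟨RingHom.ker ((Polynomial.constantCoeff : K[X] →+* K).comp (SR P).val.toRingHom), fun i p hp => by
    change ((decompose (grP P) p i : ↥(SR P)) : K[X]).coeff 0 = 0
    rw [coeff_decompose]
    split <;> [exact hp; rfl]⟩

instance : (irrP P).toIdeal.IsPrime := RingHom.ker_isPrime _

theorem mem_irrP {p : ↥(SR P)} : p ∈ (irrP P).toIdeal ↔ (p : K[X]).coeff 0 = 0 := Iff.rfl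

variable [IsAlgClosed k] (hK : IsFunctionField k K) {P}

include hK

theorem isStarLocal_irrP : GrLC.IsStarLocal (grP P) (irrP P) := by
  have hle : ∀ J : HomogeneousIdeal (grP P), J ≠ ⊤ → J ≤ irrP P := fun J hJ p hp => by
    show (p : K[X]).coeff 0 = 0
    by_contra hne
    obtain ⟨c, hc⟩ := L_zero_const hK (mem_sect_iff.1 p.2 0)
    have h0 : (decompose (grP P) p 0 : ↥(SR P)) = algebraMap k _ c := Subtype.ext (Polynomial.ext fun n => by
      rw [coeff_decompose, Subalgebra.coe_algebraMap, Polynomial.algebraMap_apply, coeff_C, hc]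
      by_cases h : n = 0
      · subst h; simp
      · rw [if_neg (by omega), if_neg h])
    have hc0 : c ≠ 0 := fun h => hne (by rw [← hc, h, map_zero])
    refine hJ (HomogeneousIdeal.ext ?_)
    rw [HomogeneousIdeal.toIdeal_top]
    exact Ideal.eq_top_of_isUnit_mem _ (J.isHomogeneous 0 hp) (h0 ▸ (isUnit_iff_ne_zero.2 hc0).map _)
  have hmt : irrP P ≠ ⊤ := fun h => by
    have h1 : (1 : ↥(SR P)) ∈ (irrP P).toIdeal := by rw [h, HomogeneousIdeal.toIdeal_top]; trivial
    rw [mem_irrP] at h1
    simp at h1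
  refine ⟨⟨hmt, fun J hJ => by_contra fun h => hJ.not_ge (hle J h)⟩, fun n hn => ?_⟩
  rcases (hle n hn.1).lt_or_eq with h | h
  · exact absurd (hn.2 _ h) hmt
  · exact h

theorem exists_finite_generators (hg : 0 < genus k K) :
    ∃ S : Set ↥(SR P), S.Finite ∧ Algebra.adjoin k S = ⊤ := by
  classical
  obtain ⟨t, ht⟩ := exists_degree_one hK (P := P)
  choose e he he0 using fun h : {h : Fin (4 * genus k K + 1) // (h : ℕ) ∈ poleOrders P} =>
    exists_phi_eq_monomial hK h.2 (1 : k)
  refine ⟨insert t (Set.range e), (Set.finite_range _).insert t, eq_top_iff.2 fun p _ => ?_⟩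
  set A := Algebra.adjoin k (insert t (Set.range e))
  have htA : t ∈ A := Algebra.subset_adjoin (Set.mem_insert _ _)
  have hmon : ∀ n, n ∈ poleOrders P →
      ∃ q ∈ A, phi hK P q = monomial n 1 ∧ ∀ m ≠ n, (q : K[X]).coeff m = 0 := by
    intro n
    induction n using Nat.strong_induction_on with
    | _ n ih =>
      intro hn
      by_cases hle : n ≤ 4 * genus k K
      · exact ⟨e ⟨⟨n, by omega⟩, hn⟩, Algebra.subset_adjoin (Set.mem_insert_of_mem _ ⟨_, rfl⟩), he _,
          he0 ⟨⟨n, by omega⟩, hn⟩⟩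
      · obtain ⟨a, ha, haφ, ha0⟩ := ih (2 * genus k K) (by omega) (large_mem_poleOrders hK le_rfl)
        obtain ⟨b, hb, hbφ, hb0⟩ := ih (n - 2 * genus k K) (by omega) (large_mem_poleOrders hK (by omega))
        refine ⟨a * b, mul_mem ha hb, ?_, fun m hm => ?_⟩
        · rw [map_mul, haφ, hbφ, monomial_mul_monomial, mul_one]
          rw [show 2 * genus k K + (n - 2 * genus k K) = n by omega]
        · rw [Subalgebra.coe_mul, coeff_mul]
          refine Finset.sum_eq_zero fun x hx => ?_
          have := Finset.HasAntidiagonal.mem_antidiagonal.1 hx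
          by_cases h1 : x.1 = 2 * genus k K
          · rw [hb0 x.2 (by omega), mul_zero]
          · rw [ha0 x.1 h1, zero_mul]
  choose! q hqA hqφ hq0 using hmon
  suffices H : ∀ (d : ℕ) (p : ↥(SR P)), (∀ n, d ≤ n → (p : K[X]).coeff n = 0) → p ∈ A from
    H ((p : K[X]).natDegree + 1) p fun n hn => coeff_eq_zero_of_natDegree_lt (by omega)
  intro d
  induction d with
  | zero =>
    intro p hp
    rw [show p = 0 from Subtype.ext (Polynomial.ext fun n => by rw [hp n (Nat.zero_le _)]; simp)]
    exact zero_mem A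
  | succ d ih =>
    intro p hp
    set r := ∑ n ∈ (phi hK P p).support, (phi hK P p).coeff n • q n
    have hH : ∀ n ∈ (phi hK P p).support, n ∈ poleOrders P := fun n hn =>
      coeff_phi_mem hK (mem_support_iff.1 hn)
    have hrA : r ∈ A := sum_mem fun n hn => A.smul_mem (hqA n (hH n hn)) _
    have hrφ : phi hK P r = phi hK P p := by
      rw [map_sum]
      conv_rhs => rw [(phi hK P p).as_sum_support]
      refine Finset.sum_congr rfl fun n hn => ?_
      rw [map_smul, hqφ n (hH n hn), smul_monomial, smul_eq_mul, mul_one]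
    have hr0 : ∀ m, d + 1 ≤ m → (r : K[X]).coeff m = 0 := fun m hm => by
      rw [AddSubmonoidClass.coe_finsetSum, finsetSum_coeff]
      refine Finset.sum_eq_zero fun n hn => ?_
      have hnm : m ≠ n := by
        rintro rfl
        refine mem_support_iff.1 hn ?_
        rw [coeff_phi, hp m hm, lc_zero hK]
      rw [Subalgebra.coe_smul, coeff_smul, hq0 n (hH n hn) m hnm, smul_zero]
    have hker : p - r ∈ RingHom.ker (phi hK P) := by rw [RingHom.mem_ker, map_sub, hrφ, sub_self]
    rw [ker_phi hK hg t one_ne_zero ht, Ideal.mem_span_singleton'] at hker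
    obtain ⟨s, hs⟩ := hker
    have hsA : s ∈ A := ih s fun n hn => by
      have := congrArg (fun x : ↥(SR P) => (x : K[X]).coeff (n + 1)) hs
      simpa [ht, coeff_mul_X, hp (n + 1) (by omega), hr0 (n + 1) (by omega)] using this
    rw [show p = s * t + r by rw [hs, sub_add_cancel]]
    exact add_mem (mul_mem hsA htA) hrA

theorem isNoetherianRing_SR (hg : 0 < genus k K) : IsNoetherianRing ↥(SR P) := by
  obtain ⟨S, hS, hA⟩ := exists_finite_generators hK (P := P) hg
  haveI : Algebra.FiniteType k ↥(SR P) := ⟨⟨hS.toFinset, by rw [hS.coe_toFinset, hA]⟩⟩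
  exact Algebra.FiniteType.isNoetherianRing k _

/-- The Weierstrass semigroup. -/
def wsg : AddSubmonoid ℕ where
  carrier := poleOrders P
  zero_mem' := zero_mem_poleOrders hK
  add_mem' := add_mem_poleOrders hK

theorem mem_wsg {n : ℕ} : n ∈ wsg hK (P := P) ↔ n ∈ poleOrders P := Iff.rfl

theorem isGorensteinRing_SR_iff (hg : 0 < genus k K) :
    LocCoh.IsGorensteinRing ↥(SR P) ↔ ∃! n : ℕ, PF (wsg hK (P := P)) n := by
  classical
  set H := wsg hK (P := P)
  have hex : ∃ c, ∀ n, c ≤ n → n ∈ H := ⟨2 * genus k K, fun n hn => large_mem_poleOrders hK hn⟩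
  set c := Nat.find hex
  have hc : ∀ n, c ≤ n → n ∈ H := Nat.find_spec hex
  have hc0 : c ≠ 0 := fun h => one_not_mem_poleOrders hK hg (hc 1 (by omega))
  have hc1 : c - 1 ∉ H := fun h => Nat.find_min hex (show c - 1 < c by omega) fun n hn => by
    rcases Nat.lt_or_ge n c with h' | h'
    · rwa [show n = c - 1 by omega]
    · exact hc n h'
  have hexe : ∃ e, e ∈ H ∧ 0 < e := ⟨c, hc c le_rfl, Nat.pos_of_ne_zero hc0⟩
  set e := Nat.find hexe
  obtain ⟨he, e_pos⟩ : e ∈ H ∧ 0 < e := Nat.find_spec hexe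
  have hmin : ∀ h ∈ H, h < e → h = 0 := fun h hh hlt => by
    by_contra h0
    exact Nat.find_min hexe hlt ⟨hh, Nat.pos_of_ne_zero h0⟩
  obtain ⟨t, ht⟩ := exists_degree_one hK (P := P)
  haveI := isNoetherianRing_SR hK (P := P) hg
  let π : ↥(SR P) →ₐ[k] ↥(sgAlg k H) := (phi hK P).codRestrict _ fun p n hn => coeff_phi_mem hK hn
  have hπ : Function.Surjective π.toRingHom := fun q => by
    obtain ⟨p, hp⟩ : (q : k[X]) ∈ Set.range (phi hK P) := by rw [range_phi]; exact q.2
    exact ⟨p, Subtype.ext hp⟩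
  haveI : IsNoetherianRing ↥(sgAlg k H) := isNoetherianRing_of_surjective _ _ π.toRingHom hπ
  let p : Ideal ↥(sgAlg k H) := RingHom.ker (cst k H)
  haveI : p.IsPrime := RingHom.ker_isPrime _
  have hpm : p.comap π.toRingHom = (irrP P).toIdeal := by
    ext x
    rw [Ideal.mem_comap, RingHom.mem_ker, mem_irrP, cst_apply]
    show (phi hK P x).coeff 0 = 0 ↔ _
    obtain ⟨a, ha⟩ := L_zero_const hK (mem_sect_iff.1 x.2 0)
    rw [coeff_phi, ← ha, lc_const hK, map_eq_zero]
  have hker : RingHom.ker π.toRingHom = Ideal.span {t} := by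
    rw [← ker_phi hK hg t one_ne_zero ht]
    ext x
    simp only [RingHom.mem_ker]
    exact Subtype.ext_iff
  obtain ⟨E⟩ := Goren15.nonempty_localization_quotient_equiv π.toRingHom hπ p
  set L := Localization.AtPrime (p.comap π.toRingHom)
  set f : L := algebraMap ↥(SR P) L t
  have hspan : Ideal.span {f} = (RingHom.ker π.toRingHom).map (algebraMap ↥(SR P) L) := by
    rw [hker, Ideal.map_span, Set.image_singleton]
  have htm : t ∈ p.comap π.toRingHom := by rw [hpm, mem_irrP, ht]; simp
  have hf : f ∈ IsLocalRing.maximalIdeal L :=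
    (IsLocalization.AtPrime.to_map_mem_maximal_iff L (p.comap π.toRingHom) _).2 htm
  have hle := Ideal.primeCompl_le_nonZeroDivisors (p.comap π.toRingHom)
  have hreg : IsSMulRegular L f := by
    haveI : IsDomain L := IsLocalization.isDomain_localization hle
    have ht0 : t ≠ 0 := fun h => by simpa [h] using congrArg (fun x : K[X] => x.coeff 1) ht
    have h0 : f ≠ 0 := fun h => ht0 (IsLocalization.injective L hle (h.trans (map_zero _).symm))
    exact fun a b hab => mul_left_cancel₀ h0 hab
  haveI : IsNoetherianRing L := IsLocalization.isNoetherianRing (p.comap π.toRingHom).primeCompl L inferInstance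
  have key : LocCoh.IsGorensteinLocalRing L ↔ ∃! n : ℕ, PF H n := by
    rw [Groth.Agent.S0343.result L f hf hreg,
      ← gorenstein_sgAlg_atPrime_iff he e_pos hc hmin hc0 hc1 p fun q => Iff.rfl]
    exact Goren15.isGorensteinLocalRing_iff_of_ringEquiv ((Ideal.quotEquivOfEq hspan).trans E)
  have tr : ∀ (a : Ideal ↥(SR P)) [a.IsPrime], a = (irrP P).toIdeal →
      (LocCoh.IsGorensteinLocalRing (Localization.AtPrime a) ↔
        LocCoh.IsGorensteinLocalRing (Localization.AtPrime (irrP P).toIdeal)) := by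
    intro a _ e'; subst e'; rfl
  rw [← key, tr _ hpm]
  refine ⟨fun h => h.isGorensteinLocalRing_localization _, fun h => ?_⟩
  exact GrLC21.isGorensteinRing_of_starMax (isStarLocal_irrP hK)

theorem isSymmetric_iff (hg : 0 < genus k K) :
    IsSymmetric (poleOrders P) ↔ ∃! n : ℕ, PF (wsg hK (P := P)) n := by
  classical
  set H := wsg hK (P := P)
  have hex : ∃ c, ∀ n, c ≤ n → n ∈ H := ⟨2 * genus k K, fun n hn => large_mem_poleOrders hK hn⟩
  set c := Nat.find hex
  have hc : ∀ n, c ≤ n → n ∈ H := Nat.find_spec hex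
  have hc0 : c ≠ 0 := fun h => one_not_mem_poleOrders hK hg (hc 1 (by omega))
  have hc1 : c - 1 ∉ H := fun h => Nat.find_min hex (show c - 1 < c by omega) fun n hn => by
    rcases Nat.lt_or_ge n c with h' | h'
    · rwa [show n = c - 1 by omega]
    · exact hc n h'
  refine Iff.trans ?_ (Groth.Agent.S15018.result H c hc hc0 hc1)
  have hmem : ∀ n : ℕ, (∃ h ∈ poleOrders P, (h : ℤ) = n) ↔ n ∈ H := fun n =>
    ⟨fun ⟨h, hh, e⟩ => by rwa [← Nat.cast_inj.1 e], fun h => ⟨n, h, rfl⟩⟩
  have hneg : ∀ z : ℤ, z < 0 → ¬ ∃ h ∈ poleOrders P, (h : ℤ) = z := fun z hz ⟨h, _, e⟩ => by omega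
  constructor
  · rintro ⟨d, hd⟩
    have hd1 : d = ((c - 1 : ℕ) : ℤ) := by
      refine le_antisymm ?_ ?_
      · by_contra hlt
        have h0 := (hd 0).1 ((hmem 0).2 H.zero_mem)
        rw [sub_zero] at h0
        exact h0 ((show d = (d.toNat : ℤ) by omega) ▸ (hmem d.toNat).2 (hc _ (by omega)))
      · by_contra hlt
        exact hc1 ((hmem _).1 ((hd ((c - 1 : ℕ) : ℤ)).2 (hneg _ (by omega))))
    intro x hx
    have h1 := hd (x : ℤ)
    rw [hmem, hd1, show ((c - 1 : ℕ) : ℤ) - x = ((c - 1 - x : ℕ) : ℤ) by omega, hmem] at h1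
    tauto
  · intro h
    refine ⟨((c - 1 : ℕ) : ℤ), fun z => ?_⟩
    rcases lt_or_ge z 0 with hz | hz
    · have h2 : ((c - 1 : ℕ) : ℤ) - z = (((c - 1 : ℕ) : ℤ) - z).toNat := by omega
      exact iff_of_false (hneg z hz) (not_not.2 (h2 ▸ (hmem _).2 (hc _ (by omega))))
    · rcases Nat.lt_or_ge z.toNat c with hzc | hzc
      · rw [show z = (z.toNat : ℤ) by omega, hmem,
          show ((c - 1 : ℕ) : ℤ) - (z.toNat : ℤ) = ((c - 1 - z.toNat : ℕ) : ℤ) by omega, hmem]
        have := h z.toNat hzc
        tauto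
      · exact iff_of_true ((show z = (z.toNat : ℤ) by omega) ▸ (hmem _).2 (hc _ hzc)) (hneg _ (by omega))

end Groth.Agent.GrSect
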