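import Groth.Agent.Lib.LiaisonH1.Socle
import Groth.Agent.Lib.Goren.SopHull27
import Groth.Agent.Lib.Goren15.Polynomial
import Mathlib.Algebra.Polynomial.Coeff
import Mathlib.RingTheory.Artinian.Algebra
import Mathlib.RingTheory.KrullDimension.Zero
import Mathlib.RingTheory.HopkinsLevitzki

/-! # The Gorenstein property of a semigroup algebra at its vertex -/

universe u

open Polynomial IsLocalRing

noncomputable section

set_option backward.isDefEq.respectTransparency false

namespace Groth.Agent.GrSect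

/-- The pseudo-Frobenius gaps of a numerical semigroup. -/
def PF (H : AddSubmonoid ℕ) (n : ℕ) : Prop := n ∉ H ∧ ∀ γ : ℕ, γ ∈ H → γ ≠ 0 → n + γ ∈ H

variable (k : Type u) [Field k] (H : AddSubmonoid ℕ)

/-- The semigroup algebra inside the polynomial ring. -/
def sgAlg : Subalgebra k k[X] where
  carrier := {q | ∀ n, q.coeff n ≠ 0 → n ∈ H}
  add_mem' {a b} ha hb n hn := by
    rw [coeff_add] at hn
    rcases eq_or_ne (a.coeff n) 0 with h | h
    · exact hb n (by simpa [h] using hn)
    · exact ha n h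
  mul_mem' {a b} ha hb n hn := by
    rw [coeff_mul] at hn
    obtain ⟨⟨i, j⟩, hij, hne⟩ := Finset.exists_ne_zero_of_sum_ne_zero hn
    replace hij : i + j = n := Finset.HasAntidiagonal.mem_antidiagonal.1 hij
    exact hij ▸ H.add_mem (ha i (left_ne_zero_of_mul hne)) (hb j (right_ne_zero_of_mul hne))
  algebraMap_mem' c n hn := by
    rw [Polynomial.algebraMap_apply, coeff_C] at hn
    split_ifs at hn with h
    · exact h ▸ H.zero_mem
    · exact absurd rfl hn

variable {k H}

theorem isUnit_add_nilpotent {A : Type*} [CommRing A] {x u : A} (hx : IsNilpotent x) (hu : IsUnit u) :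
    IsUnit (x + u) :=
  add_comm u x ▸ IsNilpotent.isUnit_add_left_of_commute hx hu (Commute.all _ _)

theorem mem_sgAlg {q : k[X]} : q ∈ sgAlg k H ↔ ∀ n, q.coeff n ≠ 0 → n ∈ H := Iff.rfl

/-- The monomials of the semigroup algebra. -/
def mono {n : ℕ} (hn : n ∈ H) (a : k) : ↥(sgAlg k H) :=
  ⟨monomial n a, fun w hw => by
    rw [coeff_monomial] at hw
    split_ifs at hw with h
    · exact h ▸ hn
    · exact absurd rfl hw⟩

theorem coe_mono {n : ℕ} (hn : n ∈ H) (a : k) : (mono hn a : k[X]) = monomial n a := rfl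

variable {e : ℕ} (he : e ∈ H)

/-- The ideal of the multiples of `X ^ e`. -/
abbrev xIdeal : Ideal ↥(sgAlg k H) := Ideal.span {mono he (1 : k)}

theorem mem_xIdeal_iff {q : ↥(sgAlg k H)} :
    q ∈ xIdeal he ↔ ∀ w, (q : k[X]).coeff w ≠ 0 → ∃ h ∈ H, e + h = w := by
  classical
  rw [xIdeal, Ideal.mem_span_singleton']
  constructor
  · rintro ⟨r, rfl⟩ w hw
    rw [Subalgebra.coe_mul, coe_mono, ← C_mul_X_pow_eq_monomial, map_one, one_mul,
      coeff_mul_X_pow'] at hw
    split_ifs at hw with h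
    · exact ⟨w - e, mem_sgAlg.1 r.2 _ hw, by omega⟩
    · exact absurd rfl hw
  · intro hq
    choose h hh hw using hq
    refine ⟨∑ w ∈ (q : k[X]).support.attach,
      mono (hh w.1 (mem_support_iff.1 w.2)) ((q : k[X]).coeff w.1), Subtype.ext ?_⟩
    rw [Subalgebra.coe_mul, AddSubmonoidClass.coe_finsetSum, Finset.sum_mul]
    simp only [coe_mono, monomial_mul_monomial, mul_one]
    conv_rhs => rw [(q : k[X]).as_sum_support, ← Finset.sum_attach]
    refine Finset.sum_congr rfl fun w _ => ?_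
    rw [add_comm, hw w.1 (mem_support_iff.1 w.2)]

/-- The quotient by `X ^ e`. -/
abbrev Quo : Type u := ↥(sgAlg k H) ⧸ (xIdeal he : Ideal ↥(sgAlg k H))

variable (k H) in
/-- The constant coefficient. -/
def cst : ↥(sgAlg k H) →+* k := (constantCoeff : k[X] →+* k).comp (sgAlg k H).val.toRingHom

theorem cst_apply (q : ↥(sgAlg k H)) : cst k H q = (q : k[X]).coeff 0 := rfl

variable (e_pos : 0 < e)

/-- The constant coefficient on the quotient. -/
def eps : Quo (k := k) he →+* k :=
  Ideal.Quotient.lift _ (cst k H) fun q hq => by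
    by_contra hne
    obtain ⟨h, -, hw⟩ := (mem_xIdeal_iff he).1 hq 0 hne
    omega

theorem eps_mk (q : ↥(sgAlg k H)) :
    eps he e_pos (Ideal.Quotient.mk _ q) = (q : k[X]).coeff 0 := Ideal.Quotient.lift_mk _ _ _

variable {c : ℕ} (hc : ∀ n : ℕ, c ≤ n → n ∈ H)

include hc in
theorem mem_xIdeal_of_large {q : ↥(sgAlg k H)} (hq : ∀ w < c + e, (q : k[X]).coeff w = 0) :
    q ∈ xIdeal he :=
  (mem_xIdeal_iff he).2 fun w hw => by
    have : c + e ≤ w := not_lt.1 fun h => hw (hq w h)
    exact ⟨w - e, hc _ (by omega), by omega⟩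

include hc in
theorem isUnit_iff (x : Quo (k := k) he) : IsUnit x ↔ eps he e_pos x ≠ 0 := by
  refine ⟨fun h => (h.map (eps he e_pos)).ne_zero, fun h => ?_⟩
  obtain ⟨q, rfl⟩ := Ideal.Quotient.mk_surjective x
  rw [eps_mk] at h
  set a := (q : k[X]).coeff 0
  have hnil : IsNilpotent (Ideal.Quotient.mk (xIdeal he) (q - algebraMap k _ a)) := by
    refine ⟨c + e, ?_⟩
    rw [← map_pow, Ideal.Quotient.eq_zero_iff_mem]
    refine mem_xIdeal_of_large he hc fun w hw => ?_
    rw [SubmonoidClass.coe_pow]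
    refine Polynomial.X_pow_dvd_iff.1 (pow_dvd_pow_of_dvd ?_ (c + e)) w hw
    rw [Polynomial.X_dvd_iff, Subalgebra.coe_sub, coeff_sub, Subalgebra.coe_algebraMap,
      Polynomial.algebraMap_apply, Algebra.algebraMap_self, RingHom.id_apply, coeff_C_zero, sub_self]
  have hu : IsUnit (Ideal.Quotient.mk (xIdeal he) (algebraMap k ↥(sgAlg k H) a)) :=
    ((isUnit_iff_ne_zero.2 h).map (algebraMap k _)).map (Ideal.Quotient.mk _)
  have := isUnit_add_nilpotent (A := Quo (k := k) he) hnil hu
  rwa [← map_add, sub_add_cancel] at this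

include e_pos in
theorem quo_nontrivial : Nontrivial (Quo (k := k) he) := (eps he e_pos).domain_nontrivial

include e_pos hc in
theorem quo_isLocalRing : IsLocalRing (Quo (k := k) he) := by
  haveI := quo_nontrivial (k := k) he e_pos
  refine IsLocalRing.of_nonunits_add fun {a b} ha hb => ?_
  simp only [mem_nonunits_iff, isUnit_iff he e_pos hc, not_not] at ha hb ⊢
  rw [map_add, ha, hb, add_zero]

include e_pos hc in
theorem mem_max_iff [IsLocalRing (Quo (k := k) he)] {x : Quo (k := k) he} :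
    x ∈ maximalIdeal _ ↔ eps he e_pos x = 0 := by
  rw [mem_maximalIdeal, mem_nonunits_iff, isUnit_iff he e_pos hc, not_not]

include hc in
theorem quo_finite : Module.Finite k (Quo (k := k) he) := by
  classical
  let S := Submodule.span k (Set.range fun w : {w : Fin (c + e) // (w : ℕ) ∈ H} =>
    Ideal.Quotient.mkₐ k (xIdeal he) (mono w.2 (1 : k)))
  suffices hS : (⊤ : Submodule k (Quo (k := k) he)) ≤ S from
    ⟨(top_le_iff.1 hS) ▸ Submodule.fg_span (Set.finite_range _)⟩
  intro x _
  obtain ⟨q, rfl⟩ := Ideal.Quotient.mk_surjective x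
  have hq : q = ∑ w ∈ (q : k[X]).support.attach,
      mono (mem_sgAlg.1 q.2 w.1 (mem_support_iff.1 w.2)) ((q : k[X]).coeff w.1) := Subtype.ext (by
    rw [AddSubmonoidClass.coe_finsetSum]
    simp only [coe_mono]
    conv_lhs => rw [(q : k[X]).as_sum_support, ← Finset.sum_attach])
  rw [hq, map_sum]
  refine sum_mem fun w _ => ?_
  have hwH := mem_sgAlg.1 q.2 w.1 (mem_support_iff.1 w.2)
  by_cases hw : (w : ℕ) < c + e
  · have hsm : mono hwH ((q : k[X]).coeff w.1) = (q : k[X]).coeff w.1 • mono hwH (1 : k) :=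
      Subtype.ext (by rw [Subalgebra.coe_smul, coe_mono, coe_mono, smul_monomial, smul_eq_mul, mul_one])
    rw [← Ideal.Quotient.mkₐ_eq_mk k, hsm, map_smul]
    exact S.smul_mem _ (Submodule.subset_span ⟨⟨⟨w.1, hw⟩, hwH⟩, rfl⟩)
  · rw [Ideal.Quotient.eq_zero_iff_mem.2 (mem_xIdeal_of_large he hc fun v hv => by
      rw [coe_mono, coeff_monomial, if_neg (by omega)])]
    exact zero_mem _

include hc in
theorem quo_isArtinianRing : IsArtinianRing (Quo (k := k) he) :=
  haveI := quo_finite (k := k) he hc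
  IsArtinianRing.of_finite k _

variable (hmin : ∀ h ∈ H, h < e → h = 0) (hc0 : c ≠ 0) (hc1 : c - 1 ∉ H)
include he e_pos hc hmin hc0 hc1

theorem socle_iff [IsLocalRing (Quo (k := k) he)] {q : ↥(sgAlg k H)} :
    (∀ a ∈ maximalIdeal (Quo (k := k) he), a * Ideal.Quotient.mk _ q = 0) ↔
      ∀ w, (q : k[X]).coeff w ≠ 0 → (∃ h ∈ H, e + h = w) ∨ (e ≤ w ∧ PF H (w - e)) := by
  constructor
  · intro ha w hw
    have key : ∀ γ ∈ H, γ ≠ 0 → ∃ h ∈ H, e + h = w + γ := fun γ hγ hγ0 => by
      have h1 := ha (Ideal.Quotient.mk _ (mono hγ (1 : k))) (by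
        rw [mem_max_iff he e_pos hc, eps_mk, coe_mono, coeff_monomial, if_neg hγ0])
      rw [← map_mul, Ideal.Quotient.eq_zero_iff_mem] at h1
      refine (mem_xIdeal_iff he).1 h1 (w + γ) ?_
      rwa [Subalgebra.coe_mul, coe_mono, coeff_monomial_mul, one_mul]
    by_cases hwe : w < e
    · obtain rfl := hmin w (mem_sgAlg.1 q.2 w hw) hwe
      obtain ⟨h, hh, hhe⟩ := key (c - 1 + e) (hc _ (by omega)) (by omega)
      exact absurd (show c - 1 ∈ H by convert hh using 1; omega) hc1
    · by_cases hn : w - e ∈ H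
      · exact Or.inl ⟨w - e, hn, by omega⟩
      · refine Or.inr ⟨not_lt.1 hwe, hn, fun γ hγ hγ0 => ?_⟩
        obtain ⟨h, hh, hhe⟩ := key γ hγ hγ0
        convert hh using 1; omega
  · intro hq a ha
    obtain ⟨r, rfl⟩ := Ideal.Quotient.mk_surjective a
    rw [mem_max_iff he e_pos hc, eps_mk] at ha
    rw [← map_mul, Ideal.Quotient.eq_zero_iff_mem, mem_xIdeal_iff]
    intro n hn
    rw [Subalgebra.coe_mul, coeff_mul] at hn
    obtain ⟨⟨i, j⟩, hij, hne⟩ := Finset.exists_ne_zero_of_sum_ne_zero hn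
    replace hij : i + j = n := Finset.HasAntidiagonal.mem_antidiagonal.1 hij
    have hi0 : i ≠ 0 := fun h => left_ne_zero_of_mul hne (h ▸ ha)
    have hiH : i ∈ H := mem_sgAlg.1 r.2 i (left_ne_zero_of_mul hne)
    rcases hq j (right_ne_zero_of_mul hne) with ⟨h, hh, hhe⟩ | ⟨hje, -, hpf⟩
    · exact ⟨i + h, H.add_mem hiH hh, by omega⟩
    · exact ⟨j - e + i, hpf i hiH hi0, by omega⟩

theorem gorenstein_quo_iff :
    LocCoh.IsGorensteinLocalRing (Quo (k := k) he) ↔ ∃! n : ℕ, PF H n := by
  haveI := quo_isLocalRing (k := k) he e_pos hc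
  haveI := quo_isArtinianRing (k := k) he hc
  have hpf1 : PF H (c - 1) := ⟨hc1, fun γ _ hγ0 => hc _ (by omega)⟩
  have hsoc : ∀ n, PF H n → ∀ (hn : n + e ∈ H), ∀ a ∈ maximalIdeal (Quo (k := k) he),
      a * Ideal.Quotient.mk _ (mono hn (1 : k)) = 0 := fun n hn hne => by
    refine (socle_iff he e_pos hc hmin hc0 hc1).2 fun w hw => ?_
    rw [coe_mono, coeff_monomial] at hw
    split_ifs at hw with h
    · subst h; exact Or.inr ⟨by omega, by rwa [Nat.add_sub_cancel]⟩
    · exact absurd rfl hw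
  constructor
  · intro hG
    refine ⟨c - 1, hpf1, fun n hn => ?_⟩
    obtain ⟨g, hg0, hgsoc, hgen⟩ := GorenLib.exists_socle_artinian (Quo (k := k) he)
      (by simpa using (ringKrullDimZero_iff_ringKrullDim_eq_zero (R := Quo (k := k) he)).1 ((isArtinianRing_iff_isNoetherianRing_krullDimLE_zero (R := Quo (k := k) he)).1 inferInstance).2)
    have hscal : ∀ x : Quo (k := k) he, x * g = Ideal.Quotient.mk _ (algebraMap k _ (eps he e_pos x)) * g :=
      fun x => sub_eq_zero.1 (by
        rw [← sub_mul]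
        refine hgsoc _ ?_
        rw [mem_max_iff he e_pos hc, map_sub, eps_mk, Subalgebra.coe_algebraMap,
          Polynomial.algebraMap_apply, Algebra.algebraMap_self, RingHom.id_apply, coeff_C_zero, sub_self])
    have h1 : c - 1 + e ∈ H := hpf1.2 e he (by omega)
    have h2 : n + e ∈ H := hn.2 e he (by omega)
    obtain ⟨a1, ha1⟩ := hgen _ (hsoc _ hpf1 h1)
    obtain ⟨a2, ha2⟩ := hgen _ (hsoc _ hn h2)
    rw [hscal] at ha1 ha2
    have hb1 : eps he e_pos a1 ≠ 0 := fun h0 => by
      rw [h0, map_zero, map_zero, zero_mul, Ideal.Quotient.eq_zero_iff_mem, mem_xIdeal_iff] at ha1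
      obtain ⟨h, hh, hhe⟩ := ha1 (c - 1 + e) (by rw [coe_mono, coeff_monomial, if_pos rfl]; exact one_ne_zero)
      exact hc1 (by convert hh using 1; omega)
    set b1 := eps he e_pos a1
    set b2 := eps he e_pos a2
    have hz : Ideal.Quotient.mk (xIdeal he) (mono h2 (1 : k) - algebraMap k _ (b2 / b1) * mono h1 1) = 0 := by
      rw [map_sub, map_mul, ha1, ha2, ← mul_assoc, ← map_mul, ← map_mul, div_mul_cancel₀ b2 hb1, sub_self]
    rw [Ideal.Quotient.eq_zero_iff_mem, mem_xIdeal_iff] at hz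
    by_contra hne
    obtain ⟨h, hh, hhe⟩ := hz (n + e) (by
      rw [Subalgebra.coe_sub, Subalgebra.coe_mul, Subalgebra.coe_algebraMap, Polynomial.algebraMap_apply,
        Algebra.algebraMap_self, RingHom.id_apply, coe_mono, coe_mono, coeff_sub, coeff_monomial, if_pos rfl,
        coeff_C_mul, coeff_monomial, if_neg (by omega), mul_zero, sub_zero]
      exact one_ne_zero)
    exact hn.1 (by convert hh using 1; omega)
  · rintro ⟨n₀, hn₀, huniq⟩
    have hw₀ : n₀ + e ∈ H := hn₀.2 e he (by omega)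
    have key : ∀ q : ↥(sgAlg k H), (∀ a ∈ maximalIdeal (Quo (k := k) he), a * Ideal.Quotient.mk _ q = 0) →
        Ideal.Quotient.mk (xIdeal he) q =
          Ideal.Quotient.mk (xIdeal he) (mono hw₀ ((q : k[X]).coeff (n₀ + e))) := fun q hq => by
      rw [Ideal.Quotient.eq, mem_xIdeal_iff]
      intro w hw
      rw [Subalgebra.coe_sub, coe_mono, coeff_sub, coeff_monomial] at hw
      split_ifs at hw with h
      · subst h; exact absurd (sub_self _) hw
      · rw [sub_zero] at hw
        rcases (socle_iff he e_pos hc hmin hc0 hc1).1 hq w hw with h' | ⟨hle, hp⟩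
        · exact h'
        · have := huniq _ hp; omega
    refine LiaisonH1.gorenstein_of_socle _ fun y y' hy0 hy hy' => ?_
    obtain ⟨q, rfl⟩ := Ideal.Quotient.mk_surjective y
    obtain ⟨q', rfl⟩ := Ideal.Quotient.mk_surjective y'
    set a := (q : k[X]).coeff (n₀ + e)
    set a' := (q' : k[X]).coeff (n₀ + e)
    have ha : a ≠ 0 := fun h0 => hy0 (by
      rw [key q hy, show (q : k[X]).coeff (n₀ + e) = 0 from h0]
      exact (congrArg _ (Subtype.ext (by rw [coe_mono, map_zero]; rfl))).trans (map_zero _))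
    refine ⟨Ideal.Quotient.mk _ (algebraMap k _ (a' / a)), ?_⟩
    rw [key q hy, key q' hy', ← map_mul]
    congr 1
    refine Subtype.ext ?_
    rw [Subalgebra.coe_mul, Subalgebra.coe_algebraMap, Polynomial.algebraMap_apply, Algebra.algebraMap_self,
      RingHom.id_apply, coe_mono, coe_mono, C_mul_monomial, div_mul_cancel₀ a' ha]

/-- The semigroup algebra is Gorenstein at its vertex iff there is exactly one pseudo-Frobenius gap. -/
theorem gorenstein_sgAlg_atPrime_iff [IsNoetherianRing ↥(sgAlg k H)] (p : Ideal ↥(sgAlg k H)) [p.IsPrime]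
    (hp : ∀ q : ↥(sgAlg k H), q ∈ p ↔ (q : k[X]).coeff 0 = 0) :
    LocCoh.IsGorensteinLocalRing (Localization.AtPrime p) ↔ ∃! n : ℕ, PF H n := by
  haveI := quo_isLocalRing (k := k) he e_pos hc
  obtain rfl : p = (maximalIdeal (Quo (k := k) he)).comap (Ideal.Quotient.mk _) := by
    ext q; rw [hp, Ideal.mem_comap, mem_max_iff he e_pos hc, eps_mk]
  obtain ⟨E⟩ := Goren15.nonempty_localization_quotient_equiv (B := Quo (k := k) he) (Ideal.Quotient.mk (xIdeal (k := k) he))
    Ideal.Quotient.mk_surjective (maximalIdeal (Quo (k := k) he))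
  set L := Localization.AtPrime ((maximalIdeal (Quo (k := k) he)).comap (Ideal.Quotient.mk _))
  set f : L := algebraMap ↥(sgAlg k H) L (mono he 1)
  have hspan : Ideal.span {f} = (RingHom.ker (Ideal.Quotient.mk (xIdeal (k := k) he))).map
      (algebraMap ↥(sgAlg k H) L) := by
    rw [Ideal.mk_ker, Ideal.map_span, Set.image_singleton]
  have hf : f ∈ maximalIdeal L := by
    refine (IsLocalization.AtPrime.to_map_mem_maximal_iff L ((maximalIdeal (Quo (k := k) he)).comap (Ideal.Quotient.mk _)) _).2 ?_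
    rw [hp, coe_mono, coeff_monomial, if_neg (by omega)]
  have hm0 : mono he (1 : k) ≠ 0 := fun h => by
    simpa [coe_mono] using congrArg (fun x : ↥(sgAlg k H) => (x : k[X]).coeff e) h
  have hreg : IsSMulRegular L f := by
    have hle := Ideal.primeCompl_le_nonZeroDivisors
      ((maximalIdeal (Quo (k := k) he)).comap (Ideal.Quotient.mk (xIdeal (k := k) he)))
    haveI : IsDomain L := IsLocalization.isDomain_localization hle
    have h0 : f ≠ 0 := fun h =>
      hm0 (IsLocalization.injective L hle (h.trans (map_zero _).symm))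
    exact fun a b hab => mul_left_cancel₀ h0 hab
  haveI : IsNoetherianRing L := IsLocalization.isNoetherianRing
    ((maximalIdeal (Quo (k := k) he)).comap (Ideal.Quotient.mk _)).primeCompl L inferInstance
  rw [Groth.Agent.S0343.result L f hf hreg, ← gorenstein_quo_iff (k := k) he e_pos hc hmin hc0 hc1]
  refine Goren15.isGorensteinLocalRing_iff_of_ringEquiv (((Ideal.quotEquivOfEq hspan).trans E).trans
    (IsLocalization.atUnits (Quo (k := k) he) (maximalIdeal (Quo (k := k) he)).primeCompl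
      (S := Localization.AtPrime (maximalIdeal (Quo (k := k) he)))
      fun x hx => by_contra fun h => hx ((mem_maximalIdeal x).2 h)).symm.toRingEquiv)

end Groth.Agent.GrSect
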